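import Groth.Agent.GeomField.Orbit
import Groth.Agent.WeilLib.PointCount
import Groth.Agent.WeilLib.Geometry
import Mathlib.AlgebraicGeometry.AlgClosed.Basic
import Mathlib.FieldTheory.Perfect

/-! The fibres of `X ×_k k̄ → X` over closed points. -/

universe u

open CategoryTheory AlgebraicGeometry Limits

set_option backward.isDefEq.respectTransparency false
set_option linter.style.haveILetI false

namespace Groth.Agent.ZH85.Galois

variable {k : Type u} [Field k] {X : Scheme.{u}} (f : X ⟶ Spec (CommRingCat.of k))

/-- The residue field of a closed point is finite over the ground field. -/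
theorem moduleFinite_residueField [LocallyOfFiniteType f] {x : X} (hx : IsClosed ({x} : Set X)) :
    letI := (VarDim.resHom f x).toAlgebra
    Module.Finite k (X.residueField x) := by
  letI := (VarDim.resHom f x).toAlgebra
  have h0 : Algebra.trdeg k (X.residueField x) = 0 := by
    have h := VarDim.deg_eq_tdeg f x
    rw [(VarDim.closedPoint_iff_deg_eq_zero f x).1 hx] at h
    exact h.symm.trans Nat.cast_zero
  haveI : Algebra.IsAlgebraic k (X.residueField x) := trdeg_eq_zero_iff.1 h0
  letI : Algebra ((Spec (CommRingCat.of k)).residueField (f x)) (X.residueField x) := (f.residueFieldMap x).hom.toAlgebra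
  letI : Algebra k ((Spec (CommRingCat.of k)).residueField (f x)) :=
    (VarDim.resHom (𝟙 (Spec (CommRingCat.of k))) (f x)).toAlgebra
  haveI : IsScalarTower k ((Spec (CommRingCat.of k)).residueField (f x)) (X.residueField x) :=
    IsScalarTower.of_algebraMap_eq fun c => by
      show VarDim.resHom f x c = f.residueFieldMap x
        ((Spec (CommRingCat.of k)).Γevaluation (f x) ((Scheme.ΓSpecIso (CommRingCat.of k)).inv c))
      rw [Scheme.Γevaluation_naturality_apply]
      rfl
  haveI : Algebra.EssFiniteType k ((Spec (CommRingCat.of k)).residueField (f x)) :=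
    Algebra.EssFiniteType.of_surjective (Algebra.ofId k _) (WeilLib.surjective_resHom_spec (f x))
  haveI : Algebra.EssFiniteType ((Spec (CommRingCat.of k)).residueField (f x)) (X.residueField x) := by
    letI aAB : Algebra ((Spec (CommRingCat.of k)).presheaf.stalk (f x)) (X.presheaf.stalk x) := (f.stalkMap x).hom.toAlgebra
    letI aAk : Algebra ((Spec (CommRingCat.of k)).presheaf.stalk (f x)) ((Spec (CommRingCat.of k)).residueField (f x)) :=
      ((Spec (CommRingCat.of k)).residue (f x)).hom.toAlgebra
    letI aBL : Algebra (X.presheaf.stalk x) (X.residueField x) := (X.residue x).hom.toAlgebra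
    letI aAL : Algebra ((Spec (CommRingCat.of k)).presheaf.stalk (f x)) (X.residueField x) :=
      ((f.stalkMap x) ≫ X.residue x).hom.toAlgebra
    haveI : IsScalarTower ((Spec (CommRingCat.of k)).presheaf.stalk (f x)) (X.presheaf.stalk x) (X.residueField x) :=
      IsScalarTower.of_algebraMap_eq fun _ => rfl
    haveI : IsScalarTower ((Spec (CommRingCat.of k)).presheaf.stalk (f x))
        ((Spec (CommRingCat.of k)).residueField (f x)) (X.residueField x) :=
      IsScalarTower.of_algebraMap_eq' (congrArg CommRingCat.Hom.hom (Scheme.residue_residueFieldMap f x)).symm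
    haveI : Algebra.EssFiniteType ((Spec (CommRingCat.of k)).presheaf.stalk (f x)) (X.presheaf.stalk x) :=
      LocallyOfFiniteType.stalkMap f x
    haveI : Algebra.EssFiniteType ((Spec (CommRingCat.of k)).presheaf.stalk (f x)) (X.residueField x) :=
      Algebra.EssFiniteType.of_surjective (IsScalarTower.toAlgHom _ (X.presheaf.stalk x) (X.residueField x))
        (X.residue_surjective x)
    exact Algebra.EssFiniteType.of_comp ((Spec (CommRingCat.of k)).presheaf.stalk (f x))
      ((Spec (CommRingCat.of k)).residueField (f x)) (X.residueField x)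
  haveI : Algebra.EssFiniteType k (X.residueField x) :=
    Algebra.EssFiniteType.comp k ((Spec (CommRingCat.of k)).residueField (f x)) (X.residueField x)
  exact Algebra.finite_of_essFiniteType_of_isAlgebraic

variable {K : Type u} [Field K] [IsAlgClosed K] [Algebra k K] [Algebra.IsAlgebraic k K]
  [Normal k K]

/-- Over a closed point the fibre consists of closed points, as many as the residue degree. -/
theorem fibre_card [PerfectField k] [LocallyOfFiniteType f] {x : X} (hx : IsClosed ({x} : Set X)) :
    (∀ y : ↑(pullback f (Spec.map (CommRingCat.ofHom (algebraMap k K)))),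
      pullback.fst f (Spec.map (CommRingCat.ofHom (algebraMap k K))) y = x → IsClosed ({y} : Set _)) ∧
    {y : ↑(pullback f (Spec.map (CommRingCat.ofHom (algebraMap k K)))) |
      pullback.fst f (Spec.map (CommRingCat.ofHom (algebraMap k K))) y = x}.Finite ∧
    Nat.card {y : ↑(pullback f (Spec.map (CommRingCat.ofHom (algebraMap k K)))) //
      pullback.fst f (Spec.map (CommRingCat.ofHom (algebraMap k K))) y = x} = EGA4loc.residueDegree f x := by
  classical
  letI : X.Over (Spec (CommRingCat.of k)) := ⟨f⟩
  letI := (VarDim.resHom f x).toAlgebra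
  haveI := moduleFinite_residueField f hx
  haveI : Algebra.IsSeparable k (X.residueField x) := Algebra.IsAlgebraic.isSeparable_of_perfectField
  set π := pullback.fst f (Spec.map (CommRingCat.ofHom (algebraMap k K))) with hπ
  set g := pullback.snd f (Spec.map (CommRingCat.ofHom (algebraMap k K))) with hg
  -- the points over `x` given by embeddings of the residue field
  let sec : (X.residueField x →ₐ[k] K) → {p : Spec (CommRingCat.of K) ⟶ pullback f (Spec.map (CommRingCat.ofHom (algebraMap k K))) // p ≫ g = 𝟙 _} :=
    fun φ => ⟨pullback.lift (Spec.map (CommRingCat.ofHom φ.toRingHom) ≫ X.fromSpecResidueField x) (𝟙 _) (by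
      rw [Category.assoc, WeilLib.fromSpecResidueField_comp, ← Spec.map_comp, Category.id_comp]
      congr 1
      ext c
      exact φ.commutes c), pullback.lift_snd _ _ _⟩
  have hsecπ : ∀ φ, π ((sec φ).1 (IsLocalRing.closedPoint K)) = x := fun φ => by
    rw [← Scheme.Hom.comp_apply]
    erw [pullback.lift_fst]
    exact Scheme.fromSpecResidueField_apply x _
  have hclosed : ∀ y, π y = x → IsClosed ({y} : Set _) := by
    obtain ⟨φ⟩ : Nonempty (X.residueField x →ₐ[k] K) := ⟨IsAlgClosed.lift⟩
    intro y hy
    obtain ⟨σ, hσ⟩ := GeomField.exists_galAct_eq (k := k) (X := X) (K := K)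
      ((sec φ).1 (IsLocalRing.closedPoint K)) y ((hsecπ φ).trans hy.symm)
    rw [← hσ, ← Set.image_singleton]
    exact (GeomField.galHomeo σ).isClosedMap _ (pointEquivClosedPoint g (sec φ)).2
  have hinj : Function.Injective fun φ => (pointEquivClosedPoint g (sec φ)).1 := by
    intro φ ψ h
    have h1 := congrArg Subtype.val ((pointEquivClosedPoint g).injective (Subtype.ext h))
    have h2 := congrArg (fun p => p ≫ π) h1
    simp only [sec, hπ, pullback.lift_fst, cancel_mono] at h2
    exact AlgHom.ext fun c => congr($(Spec.map_injective h2).hom c)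
  have hsurj : ∀ y, π y = x → ∃ φ, (pointEquivClosedPoint g (sec φ)).1 = y := by
    intro y hy
    let p := (pointEquivClosedPoint g).symm ⟨y, hclosed y hy⟩
    have hpy : p.1 (IsLocalRing.closedPoint K) = y := pointOfClosedPoint_apply g y (hclosed y hy) _
    let s := Scheme.SpecToEquivOfField K X (p.1 ≫ π)
    have hs1 : s.1 = x := by
      show (p.1 ≫ π) (IsLocalRing.closedPoint K) = x
      rw [Scheme.Hom.comp_apply, hpy, hy]
    have hs := (Scheme.SpecToEquivOfField K X).symm_apply_apply (p.1 ≫ π)
    obtain ⟨ψ, hψ⟩ : ∃ ψ : X.residueField x ⟶ CommRingCat.of K, Spec.map ψ ≫ X.fromSpecResidueField x = p.1 ≫ π := by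
      refine hs1 ▸ ⟨s.2, hs⟩
    have hψk : CommRingCat.ofHom (VarDim.resHom f x) ≫ ψ = CommRingCat.ofHom (algebraMap k K) := by
      apply Spec.map_injective
      rw [Spec.map_comp, ← WeilLib.fromSpecResidueField_comp, ← Category.assoc, hψ, Category.assoc, hπ,
        pullback.condition, ← Category.assoc, ← hg, p.2, Category.id_comp]
    refine ⟨{ toRingHom := ψ.hom, commutes' := fun c => congr($(hψk).hom c) }, ?_⟩
    refine Eq.trans (congrArg (fun q => (pointEquivClosedPoint g q).1) (Subtype.ext ?_ : sec _ = p)) hpy
    apply pullback.hom_ext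
    · rw [pullback.lift_fst]; exact hψ
    · rw [pullback.lift_snd]; exact p.2.symm
  have hrange : {y | π y = x} = Set.range fun φ => (pointEquivClosedPoint g (sec φ)).1 :=
    Set.ext fun y => ⟨fun hy => hsurj y hy, by rintro ⟨φ, rfl⟩; exact hsecπ φ⟩
  refine ⟨hclosed, hrange ▸ Set.finite_range _, ?_⟩
  show Nat.card ({y | π y = x} : Set _) = _
  rw [hrange, Nat.card_range_of_injective hinj, WeilLib.residueDegree_eq_finrank f x, Nat.card_eq_fintype_card]
  exact AlgHom.card k (X.residueField x) K

end Groth.Agent.ZH85.Galois
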