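import Groth.Agent.GeomField.Descend
import Groth.Agent.GeomField.Connected
import Groth.Agent.WeilLib.PowMap
import Groth.Agent.WeilLib.ZetaIdentity
import Groth.Prelude.Def_FinFr
import Mathlib.FieldTheory.Finite.Basic

/-! The geometric and the arithmetic Frobenius on the points of `X ×_k K`. -/

universe u

open CategoryTheory AlgebraicGeometry Limits

set_option backward.isDefEq.respectTransparency false

namespace Groth.Agent.ZH85.Galois

open Groth.Agent.WeilLib

variable {k : Type u} [Field k] [Finite k] {K : Type u} [Field K] [Algebra k K]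
variable {X Y : Scheme.{u}} {f : X ⟶ Spec (CommRingCat.of k)} {π : Y ⟶ X} {g : Y ⟶ Spec (CommRingCat.of K)}

/-- An endomorphism which is the `Q`-th power on sections of `X` and on constants fixes all points. -/
theorem apply_eq_self (hpb : IsPullback π g f (Spec.map (CommRingCat.ofHom (algebraMap k K))))
    {G : Y ⟶ Y} {Q : ℕ} (hQ : 0 < Q) (hG : IsPowLift π G Q) (hadd : ∀ {R : Type u} [CommRing R] [Algebra K R] (a b : R), (a + b) ^ Q = a ^ Q + b ^ Q)
    (hconst : ∀ (V : Y.Opens) (h : V ≤ G ⁻¹ᵁ V) (c : K),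
      (G.appLE V V h).hom (kConst g V c) = kConst g V c ^ Q) (w : Y) : G w = w := by
  obtain ⟨U, hU, hxU, -⟩ := exists_isAffineOpen_mem_and_subset (x := π w) (U := ⊤) trivial
  set V : Y.Opens := π ⁻¹ᵁ U with hVdef
  have hV : IsAffineOpen V := isAffineOpen_preimage hpb hU
  have hle : V ≤ G ⁻¹ᵁ V := hG.le U
  have hwV : w ∈ V := hxU
  have hGw : G w ∈ V := hle hwV
  letI : Algebra K Γ(Y, V) := (kConst g V).toAlgebra
  have hpow : ∀ a : Γ(Y, V), (G.appLE V V hle).hom a = a ^ Q := by
    refine sections_induction hpb hU (fun s => hG.app U hle s) (fun c => hconst V hle c)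
      (fun a b ha hb => by rw [map_add, ha, hb, hadd])
      fun a b ha hb => by rw [map_mul, ha, hb, mul_pow]
  have hiff : ∀ a : Γ(Y, V), w ∈ Y.basicOpen a ↔ G w ∈ Y.basicOpen a := fun a => by
    have h := Scheme.basicOpen_appLE G V V hle a
    rw [show (G.appLE V V hle) a = a ^ Q from hpow a] at h
    erw [Scheme.basicOpen_pow (X := Y) (f := a) hQ] at h
    refine ⟨fun hw => ?_, fun hw => ?_⟩
    · rw [h] at hw; exact hw.2
    · rw [h]; exact ⟨hwV, hw⟩
  refine Inseparable.eq (inseparable_iff_forall_isOpen.mpr fun s hs => ⟨fun h => ?_, fun h => ?_⟩)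
  · obtain ⟨a, ha, hwa⟩ := hV.exists_basicOpen_le (V := ⟨s, hs⟩) ⟨G w, h⟩ hGw
    exact ha ((hiff a).mpr hwa)
  · obtain ⟨a, ha, hwa⟩ := hV.exists_basicOpen_le (V := ⟨s, hs⟩) ⟨w, h⟩ hwV
    exact ha ((hiff a).mp hwa)

/-- The arithmetic Frobenius of `K`. -/
noncomputable def frob [Algebra.IsAlgebraic k K] : K ≃ₐ[k] K :=
  letI := Fintype.ofFinite k
  FiniteField.frobeniusAlgEquivOfAlgebraic k K

theorem frob_apply [Algebra.IsAlgebraic k K] (c : K) : (frob (k := k) : K ≃ₐ[k] K) c = c ^ Nat.card k := by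
  let := Fintype.ofFinite k
  rw [Nat.card_eq_fintype_card]
  rfl

/-- On every finite subextension an automorphism is a nonnegative power of the inverse Frobenius. -/
theorem exists_pow_eq [Algebra.IsAlgebraic k K] (F : IntermediateField k K) [FiniteDimensional k F]
    (σ : K ≃ₐ[k] K) : ∃ n : ℕ, ∀ r : F, σ (r : K) = ((frob (k := k)).symm ^ n : K ≃ₐ[k] K) (r : K) := by
  let := Fintype.ofFinite k
  haveI : Finite F := Module.finite_of_finite k
  haveI : Normal k F := inferInstance
  obtain ⟨j, hj⟩ := (FiniteField.bijective_frobeniusAlgEquivOfAlgebraic_pow k F).2 (σ.restrictNormal F).symm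
  refine ⟨j.1, fun r => ?_⟩
  have hcomm : ∀ (i : ℕ) (r : F), (((FiniteField.frobeniusAlgEquivOfAlgebraic k F ^ i) r : F) : K) =
      ((frob (k := k)) ^ i : K ≃ₐ[k] K) r := fun i => by
    induction i with
    | zero => intro r; rfl
    | succ i ih => intro r; rw [pow_succ', pow_succ', AlgEquiv.mul_apply, AlgEquiv.mul_apply, ← ih]; simp [frob]
  have h1 : ((frob (k := k)) ^ j.1 : K ≃ₐ[k] K) (σ r) = r := by
    rw [show σ r = ((σ.restrictNormal F r : F) : K) from (σ.restrictNormal_commutes F r).symm, ← hcomm]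
    show (((FiniteField.frobeniusAlgEquivOfAlgebraic k F ^ j.1) (σ.restrictNormal F r) : F) : K) = r
    rw [show (FiniteField.frobeniusAlgEquivOfAlgebraic k F ^ j.1) = (σ.restrictNormal F).symm from hj,
      AlgEquiv.symm_apply_apply]
  apply ((frob (k := k)) ^ j.1 : K ≃ₐ[k] K).injective
  rw [h1, ← AlgEquiv.mul_apply, show (frob (k := k) : K ≃ₐ[k] K).symm = (frob (k := k))⁻¹ from rfl, inv_pow,
    mul_inv_cancel, AlgEquiv.one_apply]

theorem galAct_one_apply [X.Over (Spec (CommRingCat.of k))] (y : Curv2.bc k X K) :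
    Curv2.galAct k X K 1 y = y := by
  have h : Curv2.galAct k X K (1 : K ≃ₐ[k] K) = 𝟙 _ := by
    apply pullback.hom_ext
    · rw [Curv2.galAct, pullback.lift_fst, Category.id_comp]; exact Category.comp_id _
    · rw [Curv2.galAct, pullback.lift_snd, Category.id_comp,
        show (CommRingCat.ofHom ((1 : K ≃ₐ[k] K) : K →ₐ[k] K).toRingHom) = 𝟙 _ from rfl, Spec.map_id]
      exact Category.comp_id _
  rw [h]
  rfl

theorem galAct_mul_apply [X.Over (Spec (CommRingCat.of k))] (σ τ : K ≃ₐ[k] K) (y : Curv2.bc k X K) :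
    Curv2.galAct k X K (σ * τ) y = Curv2.galAct k X K τ (Curv2.galAct k X K σ y) := by
  have h : Curv2.galAct k X K (σ * τ) = Curv2.galAct k X K σ ≫ Curv2.galAct k X K τ := by
    apply pullback.hom_ext
    · simp only [Curv2.galAct, Category.assoc, pullback.lift_fst, Category.comp_id]
    · simp only [Curv2.galAct, Category.assoc, pullback.lift_snd, pullback.lift_snd_assoc, ← Spec.map_comp]
      congr 2
  rw [h]
  rfl

theorem bcMap_galAct_congr [X.Over (Spec (CommRingCat.of k))] (L : IntermediateField k K) (σ τ : K ≃ₐ[k] K)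
    (hστ : ∀ r : L, σ (r : K) = τ (r : K)) (y : Curv2.bc k X K) :
    FBaseLib.bcMap (X ↘ Spec (CommRingCat.of k)) L K (Curv2.galAct k X K σ y) =
      FBaseLib.bcMap (X ↘ Spec (CommRingCat.of k)) L K (Curv2.galAct k X K τ y) := by
  let f := X ↘ Spec (CommRingCat.of k)
  let q : Curv2.bc k X K ⟶ Curv2.bc k X L := FBaseLib.bcMap f L K
  have hqf : q ≫ Curv2.bcFst k X L = Curv2.bcFst k X K := FBaseLib.bcMap_fst f L K
  have hqs : q ≫ Curv2.bcSnd k X L = Curv2.bcSnd k X K ≫ Spec.map (CommRingCat.ofHom (algebraMap L K)) :=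
    FBaseLib.bcMap_snd f L K
  have h : Curv2.galAct k X K σ ≫ q = Curv2.galAct k X K τ ≫ q := by
    apply pullback.hom_ext
    · simp only [Category.assoc, hqf, Curv2.galAct, pullback.lift_fst]
    · simp only [Category.assoc, hqs, Curv2.galAct, pullback.lift_snd_assoc]
      rw [← Spec.map_comp, ← Spec.map_comp]
      congr 2
      ext r
      exact hστ r
  exact congr($(h).base y)

end Groth.Agent.ZH85.Galois
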